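import Cfsg.Agent.Lib.FixityTwoSylow.Basic

/-!
# A two-point orbit of a Sylow `2`-subgroup, and the index two Frobenius subgroup
-/

set_option autoImplicit false

open MulAction

namespace Cfsg.Agent.Lib.FixityTwoSylow

universe u v

variable {G : Type u} [Group G] [Finite G] {α : Type v} [MulAction G α]

/-- A central involution `z` fixing the two-point orbit `{o, o'}`, and a further point `p` with a
non-trivial stabiliser: the group is dihedral or semidihedral and that stabiliser has order two. -/
theorem case_pair (h2 : AtMostTwo G α) (hX : IsPGroup 2 G) {z : G} (hz : orderOf z = 2)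
    (hzc : z ∈ Subgroup.center G) {o o' : α} (hoo : o ≠ o') (hzo : z • o = o) (hzo' : z • o' = o')
    (horb : ∀ s : G, s • o = o ∨ s • o = o')
    {p : α} (hpo : p ≠ o) (hpo' : p ≠ o') {r : G} (hr : r • p = p) (hr1 : r ≠ 1) :
    DihedralOrSemi G ∧ Nat.card (stabilizer G p) = 2 := by
  classical
  have hz1 : z ≠ 1 := fun h => by rw [h, orderOf_one] at hz; omega
  have hcen : ∀ g : G, g * z = z * g := fun g => Subgroup.mem_center_iff.1 hzc g
  have horb' : ∀ s : G, s • o' = o ∨ s • o' = o' := by
    intro s
    have hfix : z • (s • o') = s • o' := by rw [← mul_smul, ← hcen, mul_smul, hzo']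
    rcases h2 z hz1 o o' (s • o') hzo hzo' hfix with h | h | h
    · exact absurd h hoo
    · exact Or.inl h.symm
    · exact Or.inr h.symm
  have hswap : ∀ s : G, s • p = p → s ≠ 1 → s • o = o' ∧ s • o' = o := by
    intro s hs hs1
    have hno : ¬ (s • o = o ∧ s • o' = o') := by
      rintro ⟨h, h'⟩
      rcases h2 s hs1 o o' p h h' hs with e | e | e
      · exact hoo e
      · exact hpo e.symm
      · exact hpo' e.symm
    rcases horb s with h | h
    · exfalso
      rcases horb' s with h' | h'
      · exact hoo (smul_left_cancel s (h.trans h'.symm))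
      · exact hno ⟨h, h'⟩
    · refine ⟨h, ?_⟩
      rcases horb' s with h' | h'
      · exact h'
      · exact absurd (smul_left_cancel s (h.trans h'.symm)) hoo
  have hmul : ∀ s t : G, s • p = p → t • p = p → s ≠ 1 → t ≠ 1 → s * t = 1 := by
    intro s t hs ht hs1 ht1
    by_contra hne
    have h1 := hswap (s * t) (by rw [mul_smul, ht, hs]) hne
    have h2' : (s * t) • o = o := by rw [mul_smul, (hswap t ht ht1).1, (hswap s hs hs1).2]
    exact hoo (h2'.symm.trans h1.1)
  have honly : ∀ s : G, s • p = p → s = 1 ∨ s = r := by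
    intro s hs
    by_cases hs1 : s = 1
    · exact Or.inl hs1
    · refine Or.inr ?_
      have e1 := hmul s r hs hr hs1 hr1
      have e2 := hmul r r hr hr hr1 hr1
      exact mul_right_cancel (e1.trans e2.symm)
  have hzp : z • p ≠ p := fun h => by
    rcases h2 z hz1 o o' p hzo hzo' h with e | e | e
    · exact hoo e
    · exact hpo e.symm
    · exact hpo' e.symm
  refine ⟨?_, ?_⟩
  · have hr2 : orderOf r = 2 := orderOf_eq_prime (by rw [pow_two]; exact hmul r r hr hr hr1 hr1) hr1
    have hzr : z ≠ r := fun h => hzp (h ▸ hr)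
    refine dihedralOrSemi_of_centralizer hX hr2 hz hzr (hcen r) ?_
    refine card_le_four _ r p (z • p) (fun c hc => ?_) (fun c _ hca => honly c hca)
    have hfc : r • (c • p) = c • p := by
      rw [← mul_smul, ← Subgroup.mem_centralizer_singleton_iff.1 hc, mul_smul, hr]
    have hfz : r • (z • p) = z • p := by rw [← mul_smul, hcen, mul_smul, hr]
    rcases h2 r hr1 p (z • p) (c • p) hr hfz hfc with e | e | e
    · exact absurd e.symm hzp
    · exact Or.inl e.symm
    · exact Or.inr e.symm
  · have : (stabilizer G p : Set G) = {1, r} := by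
      ext g
      simp only [SetLike.mem_coe, mem_stabilizer_iff, Set.mem_insert_iff, Set.mem_singleton_iff]
      exact ⟨honly g, by rintro (rfl | rfl) <;> simp [hr]⟩
    rw [← SetLike.coe_sort_coe, Nat.card_coe_set_eq, this, Set.ncard_pair (Ne.symm hr1)]

/-- If a Sylow `2`-subgroup has a two-point orbit `{o, o'}` and is semiregular elsewhere, there is a
subgroup of index two which is a Frobenius group. -/
theorem exists_frobenius [Finite α] [IsPretransitive G α] [FaithfulSMul G α]
    (h2 : AtMostTwo G α) (S : Sylow 2 G) {o o' : α} (hoo : o ≠ o')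
    (hzo : ∃ z ∈ (S : Subgroup G), z ≠ 1 ∧ z • o = o)
    {s₀ : G} (hs₀ : s₀ ∈ (S : Subgroup G)) (hs₀o : s₀ • o = o')
    (horb : ∀ s ∈ (S : Subgroup G), s • o = o ∨ s • o = o')
    (horb' : ∀ s ∈ (S : Subgroup G), s • o' = o ∨ s • o' = o')
    (hreg : ∀ s ∈ (S : Subgroup G), ∀ p : α, s • p = p → s ≠ 1 → p = o ∨ p = o') :
    ∃ N : Subgroup G, N.Normal ∧ N.index = 2 ∧
      ∃ H : Subgroup ↥N, Cfsg.IsFrobeniusComplement H := by
  classical
  haveI : Fact (Nat.Prime 2) := ⟨Nat.prime_two⟩
  -- elements of `S` with a fixed point fix `o`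
  have hfo : ∀ s ∈ (S : Subgroup G), ∀ p : α, s • p = p → s • o = o := by
    intro s hs p hp
    by_cases hs1 : s = 1
    · rw [hs1, one_smul]
    rcases hreg s hs p hp hs1 with rfl | rfl
    · exact hp
    · rcases horb s hs with h | h
      · exact h
      · exact absurd (smul_left_cancel s (h.trans hp.symm)) hoo
  let lam : ↥(S : Subgroup G) →* ℤˣ :=
    MonoidHom.mk' (fun s => if (s : G) • o = o then 1 else -1) (by
      intro s t
      rcases horb _ s.2 with hs | hs <;> rcases horb _ t.2 with ht | ht
      · simp [mul_smul, hs, ht]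
      · rcases horb' _ s.2 with hs' | hs'
        · exact absurd (smul_left_cancel (s : G) (hs.trans hs'.symm)) hoo
        · simp [mul_smul, hs, ht, hs', hoo.symm]
      · simp [mul_smul, hs, ht, hoo.symm]
      · rcases horb' _ s.2 with hs' | hs'
        · simp [mul_smul, hs, ht, hs', hoo.symm]
        · exact absurd (smul_left_cancel (s : G) (hs.trans hs'.symm)) hoo)
  have hlam : ∀ s : ↥(S : Subgroup G), lam s = if (s : G) • o = o then 1 else -1 := fun s => rfl
  haveI : (S : Subgroup G).FiniteIndex := inferInstance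
  set V := MonoidHom.transfer lam with hV
  have hodd : Odd (S : Subgroup G).index := by
    rw [Nat.odd_iff, ← Nat.two_dvd_ne_zero]
    exact S.not_dvd_index
  have hVS : ∀ (s : G) (hs : s ∈ (S : Subgroup G)), V s = lam ⟨s, hs⟩ := by
    intro s hs
    rw [hV, Cfsg.Agent.Lib.Fusion.Thompson.transfer_controlled lam s hs]
    · rcases Int.units_eq_one_or (lam ⟨s, hs⟩) with h | h <;> rw [h]
      · exact one_pow _
      · exact hodd.neg_one_pow
    · intro m a h
      rw [← map_pow, hlam, hlam, SubmonoidClass.coe_pow]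
      have hiff : (a * s ^ m * a⁻¹) • o = o ↔ (s ^ m) • o = o := by
        constructor
        · intro he
          apply hfo _ ((S : Subgroup G).pow_mem hs m) (a⁻¹ • o)
          rw [mul_smul, mul_smul] at he
          exact (inv_smul_eq_iff.2 he.symm).symm
        · intro he
          apply hfo _ h (a • o)
          rw [mul_smul, mul_smul, inv_smul_smul, he]
      simp only [hiff]
  set N := V.ker with hN
  have hVs₀ : V s₀ = -1 := by
    rw [hVS s₀ hs₀, hlam, if_neg]
    rw [hs₀o]
    exact hoo.symm
  have hidx : N.index = 2 := by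
    have hsurj : Function.Surjective V := by
      intro x
      rcases Int.units_eq_one_or x with rfl | rfl
      · exact ⟨1, map_one V⟩
      · exact ⟨s₀, hVs₀⟩
    rw [hN, Subgroup.index_ker, MonoidHom.range_eq_top.2 hsurj, Subgroup.card_top,
      Nat.card_eq_fintype_card, Fintype.card_units_int]
  have hs₀N : s₀ ∉ N := fun h => by
    rw [hN, MonoidHom.mem_ker, hVs₀] at h
    exact absurd h (by decide)
  -- two-elements are conjugate into `S`
  have htwo : ∀ y : G, (∃ k : ℕ, orderOf y = 2 ^ k) → ∃ a : G, a * y * a⁻¹ ∈ (S : Subgroup G) := by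
    rintro y ⟨k, hk⟩
    have hp : IsPGroup 2 (Subgroup.zpowers y) :=
      IsPGroup.of_card (n := k) (by rw [Nat.card_zpowers, hk])
    obtain ⟨Q, hQ⟩ := hp.exists_le_sylow
    obtain ⟨a, ha⟩ := MulAction.exists_smul_eq G Q S
    refine ⟨a, ?_⟩
    rw [← ha]
    change MulAut.conj a y ∈ ((a • Q : Sylow 2 G) : Subgroup G)
    exact Subgroup.smul_mem_pointwise_smul _ _ _ (hQ (Subgroup.mem_zpowers y))
  have hstabN : ∀ g : G, g • o = o → g ∈ N := by
    intro g hg
    rw [hN, MonoidHom.mem_ker]
    rcases Int.units_eq_one_or (V g) with h | h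
    · exact h
    exfalso
    obtain ⟨k, m, hm, hkm⟩ := Nat.exists_eq_two_pow_mul_odd (n := orderOf g) (orderOf_pos g).ne'
    have hy : V (g ^ m) = -1 := by rw [map_pow, h]; exact hm.neg_one_pow
    have hyo : (g ^ m) • o = o :=
      mem_stabilizer_iff.1 ((stabilizer G o).pow_mem (mem_stabilizer_iff.2 hg) m)
    have hord : orderOf (g ^ m) = 2 ^ k := by
      rw [orderOf_pow_of_dvd hm.pos.ne' ⟨2 ^ k, by rw [hkm]; ring⟩, hkm,
        Nat.mul_div_cancel _ hm.pos]
    obtain ⟨a, ha⟩ := htwo _ ⟨k, hord⟩
    have : V (a * g ^ m * a⁻¹) = -1 := by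
      rw [map_mul, map_mul, map_inv, hy, mul_comm (V a), mul_inv_cancel_right]
    rw [hVS _ ha, hlam, if_pos] at this
    · exact absurd this (by decide)
    · apply hfo _ ha (a • o)
      rw [mul_smul, mul_smul, inv_smul_smul, hyo]
  have hNn : N.Normal := MonoidHom.normal_ker V
  refine ⟨N, hNn, hidx, (stabilizer G o).subgroupOf N, ?_, ?_, ?_⟩
  · intro hbot
    obtain ⟨z, -, hz1, hz⟩ := hzo
    have hmem : (⟨z, hstabN z hz⟩ : ↥N) ∈ (stabilizer G o).subgroupOf N := mem_stabilizer_iff.2 hz
    rw [hbot, Subgroup.mem_bot] at hmem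
    exact hz1 (congrArg Subtype.val hmem)
  · intro htop
    obtain ⟨z, -, hz1, hz⟩ := hzo
    apply hz1
    refine FaithfulSMul.eq_of_smul_eq_smul (α := α) fun p => ?_
    obtain ⟨g, rfl⟩ := exists_smul_eq G o p
    have hmem : (⟨g⁻¹ * z * g, hNn.conj_mem' z (hstabN z hz) g⟩ : ↥N) ∈
        (stabilizer G o).subgroupOf N := htop ▸ Subgroup.mem_top _
    have hm : (g⁻¹ * z * g) • o = o := hmem
    rw [mul_smul, mul_smul, inv_smul_eq_iff] at hm
    rw [one_smul]
    exact hm
  · intro n hn
    rw [Subgroup.eq_bot_iff_forall]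
    intro x hx
    by_contra hx1
    obtain ⟨hx1o, hx2⟩ := Subgroup.mem_inf.1 hx
    rw [Subgroup.mem_pointwise_smul_iff_inv_smul_mem] at hx2
    have hxo : (x : G) • o = o := hx1o
    have hxn : (x : G) • ((n : G) • o) = (n : G) • o := by
      have h' : (((MulAut.conj n)⁻¹ • x : ↥N) : G) • o = o := hx2
      rw [MulAut.smul_def, MulAut.conj_inv_apply] at h'
      simp only [Subgroup.coe_mul, Subgroup.coe_inv, mul_smul, inv_smul_eq_iff] at h'
      exact h'
    have hno : (n : G) • o ≠ o := fun h => hn (mem_stabilizer_iff.2 h)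
    have hxne : (x : G) ≠ 1 := fun h => hx1 (Subtype.ext h)
    -- pass to prime order
    set r := (orderOf (x : G)).minFac with hr
    have hrp : r.Prime := Nat.minFac_prime (fun h => hxne (orderOf_eq_one_iff.1 h))
    haveI : Fact r.Prime := ⟨hrp⟩
    set y := (x : G) ^ (orderOf (x : G) / r) with hy
    have hyord : orderOf y = r :=
      orderOf_pow_orderOf_div (orderOf_pos (x : G)).ne' (Nat.minFac_dvd _)
    have hyo : y • o = o :=
      mem_stabilizer_iff.1 ((stabilizer G o).pow_mem (mem_stabilizer_iff.2 hxo) _)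
    have hyn : y • ((n : G) • o) = (n : G) • o :=
      mem_stabilizer_iff.1 ((stabilizer G ((n : G) • o)).pow_mem (mem_stabilizer_iff.2 hxn) _)
    have hy1 : y ≠ 1 := fun h => by
      rw [h, orderOf_one] at hyord
      exact hrp.one_lt.ne hyord
    have honly : ∀ p : α, y • p = p → p = o ∨ p = (n : G) • o := by
      intro p hp
      rcases h2 y hy1 o ((n : G) • o) p hyo hyn hp with e | e | e
      · exact absurd e.symm hno
      · exact Or.inl e.symm
      · exact Or.inr e.symm
    rcases eq_or_ne r 2 with h2r | h2r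
    · obtain ⟨a, ha⟩ := htwo y ⟨1, by rw [hyord, h2r, pow_one]⟩
      have hs1 : a * y * a⁻¹ ≠ 1 := by
        rw [Ne, conj_eq_one_iff]
        exact hy1
      have himg : ∀ p : α, y • p = p → a • p = o ∨ a • p = o' := fun p hp =>
        hreg _ ha (a • p) (by rw [mul_smul, mul_smul, inv_smul_smul, hp]) hs1
      have hsame : ∀ g : G, g • o = o' → g ∉ N := by
        intro g hg hgN
        apply hs₀N
        have : g⁻¹ * s₀ ∈ N := hstabN _ (by rw [mul_smul, hs₀o, inv_smul_eq_iff, hg])
        have := N.mul_mem hgN this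
        rwa [mul_inv_cancel_left] at this
      rcases himg o hyo with h | h
      · rcases himg _ hyn with h' | h'
        · exact hno (smul_left_cancel a (h'.trans h.symm))
        · exact hsame (a * n) (by rw [mul_smul, h']) (N.mul_mem (hstabN a h) n.2)
      · rcases himg _ hyn with h' | h'
        · have han : a * n ∈ N := hstabN _ (by rw [mul_smul, h'])
          have : a ∈ N := by
            have := N.mul_mem han (N.inv_mem n.2)
            rwa [mul_inv_cancel_right] at this
          exact hsame a h this
        · exact hno (smul_left_cancel a (h'.trans h.symm))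
    · -- odd order: count modulo `r`
      have hyN : y ∈ N := N.pow_mem x.2 _
      set Y : Subgroup ↥N := Subgroup.zpowers (⟨y, hyN⟩ : ↥N) with hY
      have hYp : IsPGroup r Y := IsPGroup.of_card (n := 1) (by
        rw [hY, Nat.card_zpowers, ← Subgroup.orderOf_coe, hyord, pow_one])
      have hfix : fixedPoints Y α = {o, (n : G) • o} := by
        ext p
        simp only [Set.mem_insert_iff, Set.mem_singleton_iff]
        constructor
        · intro hp
          exact honly p (hp ⟨⟨y, hyN⟩, Subgroup.mem_zpowers _⟩)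
        · intro hp w
          have hst : (⟨y, hyN⟩ : ↥N) ∈ stabilizer ↥N p := by
            rcases hp with rfl | rfl
            · exact hyo
            · exact hyn
          exact (Subgroup.zpowers_le.2 hst) w.2
      have hc1 := hYp.card_modEq_card_fixedPoints (α := α)
      rw [hfix, Nat.card_coe_set_eq, Set.ncard_pair hno.symm] at hc1
      have hfix' : fixedPoints Y (orbit ↥N o) = {⟨o, mem_orbit_self o⟩, ⟨(n : G) • o, mem_orbit o n⟩} := by
        ext ⟨p, hp'⟩
        simp only [Set.mem_insert_iff, Set.mem_singleton_iff, Subtype.mk.injEq]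
        constructor
        · intro hp
          exact honly p (congrArg Subtype.val (hp ⟨⟨y, hyN⟩, Subgroup.mem_zpowers _⟩))
        · intro hp w
          apply Subtype.ext
          have : p ∈ fixedPoints Y α := by
            rw [hfix]
            simpa using hp
          exact this w
      have hc2 := hYp.card_modEq_card_fixedPoints (α := orbit ↥N o)
      rw [hfix', Nat.card_coe_set_eq (s := ({⟨o, mem_orbit_self o⟩, ⟨(n : G) • o, mem_orbit o n⟩} :
        Set (orbit ↥N o))), Set.ncard_pair (fun h => hno (congrArg Subtype.val h).symm)] at hc2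
      have hle : stabilizer G o ≤ N := fun g hg => hstabN g (mem_stabilizer_iff.1 hg)
      have hcard : Nat.card α = 2 * Nat.card (orbit ↥N o) := by
        rw [← index_stabilizer_of_transitive G o, ← Subgroup.relIndex_mul_index hle, hidx,
          Nat.card_coe_set_eq, ← index_stabilizer, mul_comm]
        rfl
      have h4 : 2 * 2 ≡ 2 [MOD r] := ((hc2.mul_left 2).symm.trans (hcard ▸ Nat.ModEq.refl _)).trans hc1
      have : r ∣ 2 := by simpa using (Nat.modEq_iff_dvd' (by norm_num)).1 h4.symm
      exact h2r ((Nat.prime_dvd_prime_iff_eq hrp Nat.prime_two).1 this)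

end Cfsg.Agent.Lib.FixityTwoSylow
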